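import Groth.Prelude.Def_EtMil
import Mathlib

/-!
# Modules over a Milnor square
-/

namespace Groth.Agent.EtMilLib

open TensorProduct

universe u

/-- Base change turns flatness into exactness for modules over the bigger ring. -/
theorem rTensor_injective_of_linear {R : Type u} [CommRing R] (S : Type u) [CommRing S] [Algebra R S]
    (L : Type u) [AddCommGroup L] [Module R L] [Module.Flat S (S ⊗[R] L)]
    {X Y : Type u} [AddCommGroup X] [Module R X] [Module S X] [IsScalarTower R S X]
    [AddCommGroup Y] [Module R Y] [Module S Y] [IsScalarTower R S Y]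
    (f : X →ₗ[S] Y) (hf : Function.Injective f) :
    Function.Injective ((f.restrictScalars R).rTensor L) := by
  let eX := TensorProduct.AlgebraTensorModule.cancelBaseChange R S S X L
  let eY := TensorProduct.AlgebraTensorModule.cancelBaseChange R S S Y L
  have h : ∀ t, (f.restrictScalars R).rTensor L (eX t) = eY (f.rTensor (S ⊗[R] L) t) := fun t => by
    induction t using TensorProduct.induction_on with
    | zero => simp
    | add x y hx hy => simp only [map_add, hx, hy]
    | tmul x w =>
      induction w using TensorProduct.induction_on with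
      | zero => simp
      | add a b ha hb => simp only [TensorProduct.tmul_add, map_add, ha, hb]
      | tmul s l => simp [eX, eY]
  intro a b hab
  obtain ⟨a, rfl⟩ := eX.surjective a
  obtain ⟨b, rfl⟩ := eX.surjective b
  rw [h, h] at hab
  exact congr_arg eX (Module.Flat.rTensor_preserves_injective_linearMap _ hf (eY.injective hab))

/-- The same for modules killed by the kernel of a surjection. -/
theorem rTensor_injective_of_killed {R : Type u} [CommRing R] (S : Type u) [CommRing S] [Algebra R S]
    (hS : Function.Surjective (algebraMap R S))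
    (L : Type u) [AddCommGroup L] [Module R L] [Module.Flat S (S ⊗[R] L)]
    {X Y : Type u} [AddCommGroup X] [Module R X] [AddCommGroup Y] [Module R Y]
    (hY : ∀ j, algebraMap R S j = 0 → ∀ y : Y, j • y = 0)
    (f : X →ₗ[R] Y) (hf : Function.Injective f) :
    Function.Injective (f.rTensor L) := by
  have hX : ∀ j, algebraMap R S j = 0 → ∀ x : X, j • x = 0 := fun j hj x =>
    hf (by rw [map_smul, hY j hj, map_zero])
  obtain ⟨l, hl⟩ := Function.Surjective.hasRightInverse hS
  have key : ∀ {Z : Type u} [AddCommGroup Z] [Module R Z]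
      (_ : ∀ j, algebraMap R S j = 0 → ∀ z : Z, j • z = 0) (r r' : R) (z : Z),
      algebraMap R S r = algebraMap R S r' → r • z = r' • z := fun hZ r r' z h => by
    rw [← sub_eq_zero, ← sub_smul]
    exact hZ _ (by rw [map_sub, h, sub_self]) z
  let mk : ∀ (Z : Type u) [AddCommGroup Z] [Module R Z],
      (∀ j, algebraMap R S j = 0 → ∀ z : Z, j • z = 0) → Module S Z := fun Z _ _ hZ =>
    { smul := fun s z => l s • z
      one_smul := fun z => (key hZ _ 1 z (by rw [hl, map_one])).trans (one_smul R z)
      mul_smul := fun s t z => (key hZ _ (l s * l t) z (by rw [hl, map_mul, hl, hl])).trans (mul_smul _ _ z)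
      smul_zero := fun s => smul_zero (l s)
      smul_add := fun s => smul_add (l s)
      add_smul := fun s t z => (key hZ _ (l s + l t) z (by rw [hl, map_add, hl, hl])).trans (add_smul _ _ z)
      zero_smul := fun z => (key hZ _ 0 z (by rw [hl, map_zero])).trans (zero_smul R z) }
  letI := mk X hX
  letI := mk Y hY
  haveI : IsScalarTower R S X := ⟨fun r s x => by
    show l (r • s) • x = r • l s • x
    rw [smul_smul]
    exact key hX _ _ x (by rw [hl, map_mul, hl, Algebra.smul_def])⟩
  haveI : IsScalarTower R S Y := ⟨fun r s x => by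
    show l (r • s) • x = r • l s • x
    rw [smul_smul]
    exact key hY _ _ x (by rw [hl, map_mul, hl, Algebra.smul_def])⟩
  let g : X →ₗ[S] Y :=
    { f with map_smul' := fun s x => by exact map_smul f (l s) x }
  exact rTensor_injective_of_linear S L g hf

variable {B' B A' A : Type u} [CommRing B'] [CommRing B] [CommRing A'] [CommRing A]
  [Algebra B' B] [Algebra B' A'] [Algebra B A] [Algebra A' A] [Algebra B' A]
  [IsScalarTower B' B A] [IsScalarTower B' A' A]

theorem surjective_left (hsq : EtMil.IsFibreSquare B' B A' A) :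
    Function.Surjective (algebraMap B' B) := fun b => by
  obtain ⟨a', ha'⟩ := hsq.1 (algebraMap B A b)
  obtain ⟨b', ⟨hb, -⟩, -⟩ := hsq.2 b a' ha'.symm
  exact ⟨b', hb⟩

theorem exists_lift_ker (hsq : EtMil.IsFibreSquare B' B A' A) (i : A') (hi : algebraMap A' A i = 0) :
    ∃ j : B', algebraMap B' B j = 0 ∧ algebraMap B' A' j = i :=
  (hsq.2 0 i (by rw [map_zero, hi])).exists

theorem eq_of_both (hsq : EtMil.IsFibreSquare B' B A' A) {x y : B'}
    (h₁ : algebraMap B' B x = algebraMap B' B y) (h₂ : algebraMap B' A' x = algebraMap B' A' y) :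
    x = y :=
  (hsq.2 (algebraMap B' B y) (algebraMap B' A' y) (by
    rw [← IsScalarTower.algebraMap_apply, ← IsScalarTower.algebraMap_apply])).unique ⟨h₁, h₂⟩ ⟨rfl, rfl⟩

theorem map_eq_zero_of_left {j : B'} (hj : algebraMap B' B j = 0) :
    algebraMap A' A (algebraMap B' A' j) = 0 := by
  rw [← IsScalarTower.algebraMap_apply B' A' A, IsScalarTower.algebraMap_apply B' B A, hj, map_zero]

variable (L : Type u) [AddCommGroup L] [Module B' L]

theorem exists_eq_tmul_one (hsq : EtMil.IsFibreSquare B' B A' A) (x : B ⊗[B'] L) :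
    ∃ l : L, (1 : B) ⊗ₜ[B'] l = x :=
  TensorProduct.mk_surjective B' L B (surjective_left hsq) x

/-- Pairs with the same image come from the module. -/
theorem exists_of_pair (hsq : EtMil.IsFibreSquare B' B A' A) (x : B ⊗[B'] L) (y : A' ⊗[B'] L)
    (hxy : (IsScalarTower.toAlgHom B' B A).toLinearMap.rTensor L x =
      (IsScalarTower.toAlgHom B' A' A).toLinearMap.rTensor L y) :
    ∃ l : L, (1 : B) ⊗ₜ[B'] l = x ∧ (1 : A') ⊗ₜ[B'] l = y := by
  obtain ⟨l₀, rfl⟩ := exists_eq_tmul_one L hsq x
  set g := (IsScalarTower.toAlgHom B' A' A).toLinearMap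
  have hd : g.rTensor L (y - (1 : A') ⊗ₜ[B'] l₀) = 0 := by
    rw [map_sub, ← hxy]
    simp [g]
  have hex := rTensor_exact L (LinearMap.exact_subtype_ker_map g) hsq.1
  obtain ⟨w, hw⟩ := (hex _).1 hd
  have key : ∀ w, ∃ l : L, (1 : B) ⊗ₜ[B'] l = (0 : B ⊗[B'] L) ∧
      (1 : A') ⊗ₜ[B'] l = (LinearMap.ker g).subtype.rTensor L w := fun w => by
    induction w using TensorProduct.induction_on with
    | zero => exact ⟨0, by simp, by simp⟩
    | add a b ha hb =>
      obtain ⟨la, ha1, ha2⟩ := ha
      obtain ⟨lb, hb1, hb2⟩ := hb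
      exact ⟨la + lb, by rw [TensorProduct.tmul_add, ha1, hb1, add_zero],
        by rw [TensorProduct.tmul_add, ha2, hb2, map_add]⟩
    | tmul i l =>
      obtain ⟨j, hj1, hj2⟩ := exists_lift_ker hsq (i : A') i.2
      refine ⟨j • l, ?_, ?_⟩
      · rw [← TensorProduct.smul_tmul, Algebra.smul_def, mul_one, hj1, TensorProduct.zero_tmul]
      · rw [← TensorProduct.smul_tmul, Algebra.smul_def, mul_one, hj2, LinearMap.rTensor_tmul]
        rfl
  obtain ⟨l, hl1, hl2⟩ := key w
  exact ⟨l₀ + l, by rw [TensorProduct.tmul_add, hl1, add_zero],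
    by rw [TensorProduct.tmul_add, hl2, hw, add_sub_cancel]⟩

/-- Elements killed in the second base change are killed by `J`. -/
theorem smul_eq_zero (hsq : EtMil.IsFibreSquare B' B A' A) {l : L}
    (h2 : (1 : A') ⊗ₜ[B'] l = (0 : A' ⊗[B'] L)) {j : B'} (hj : algebraMap B' B j = 0) : j • l = 0 := by
  have hex : ∀ a : A', ∃ j' : B', algebraMap B' B j' = 0 ∧ algebraMap B' A' j' = a * algebraMap B' A' j :=
    fun a => exists_lift_ker hsq _ (by rw [map_mul, map_eq_zero_of_left hj, mul_zero])
  choose μ hμ1 hμ2 using hex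
  let μl : A' →ₗ[B'] B' :=
    { toFun := μ
      map_add' := fun a b => eq_of_both hsq (by simp [hμ1]) (by simp [hμ2, add_mul])
      map_smul' := fun c a => eq_of_both hsq (by simp [hμ1])
        (by simp [hμ2, Algebra.smul_def, mul_assoc]) }
  have h3 := congr_arg (fun t => TensorProduct.lid B' L (μl.rTensor L t)) h2
  simp only [LinearMap.rTensor_tmul, TensorProduct.lid_tmul, map_zero] at h3
  rwa [show μl 1 = j from eq_of_both hsq (by simp [μl, hμ1, hj]) (by simp [μl, hμ2])] at h3

theorem mem_smul_top (hsq : EtMil.IsFibreSquare B' B A' A) {l : L}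
    (h1 : (1 : B) ⊗ₜ[B'] l = (0 : B ⊗[B'] L)) :
    l ∈ RingHom.ker (algebraMap B' B) • (⊤ : Submodule B' L) := by
  set f := Algebra.linearMap B' B
  have hex := rTensor_exact L (LinearMap.exact_subtype_ker_map f) (surjective_left hsq)
  obtain ⟨w, hw⟩ := (hex ((1 : B') ⊗ₜ l)).1 (by
    rw [LinearMap.rTensor_tmul, Algebra.linearMap_apply, map_one, h1])
  have key : ∀ w, TensorProduct.lid B' L ((LinearMap.ker f).subtype.rTensor L w) ∈
      RingHom.ker (algebraMap B' B) • (⊤ : Submodule B' L) := fun w => by
    induction w using TensorProduct.induction_on with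
    | zero => simp
    | add a b ha hb => rw [map_add, map_add]; exact add_mem ha hb
    | tmul i m =>
      rw [LinearMap.rTensor_tmul, TensorProduct.lid_tmul]
      exact Submodule.smul_mem_smul (show (i : B') ∈ RingHom.ker (algebraMap B' B) from i.2) trivial
  have := key w
  rwa [hw, TensorProduct.lid_tmul, one_smul] at this

theorem subsingleton_of_pair (hsq : EtMil.IsFibreSquare B' B A' A) [Subsingleton (B ⊗[B'] L)]
    [Subsingleton (A' ⊗[B'] L)] : Subsingleton L := by
  refine subsingleton_of_forall_eq 0 fun l => ?_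
  refine Submodule.smul_induction_on (mem_smul_top L hsq (l := l) (Subsingleton.elim _ _))
    (fun j hj m _ => smul_eq_zero L hsq (Subsingleton.elim _ _) hj) fun a b ha hb => ?_
  rw [ha, hb, add_zero]

theorem finite_of_pair (hsq : EtMil.IsFibreSquare B' B A' A) [Module.Finite B (B ⊗[B'] L)]
    [Module.Finite A' (A' ⊗[B'] L)] : Module.Finite B' L := by
  classical
  have hgen : ∀ (S : Type u) [CommRing S] [Algebra B' S] [Module.Finite S (S ⊗[B'] L)],
      ∃ s : Finset L, Submodule.span S ((fun l => (1 : S) ⊗ₜ[B'] l) '' (s : Set L)) = ⊤ := by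
    intro S _ _ _
    have h : ∀ t : S ⊗[B'] L, ∃ s : Finset L,
        t ∈ Submodule.span S ((fun l => (1 : S) ⊗ₜ[B'] l) '' (s : Set L)) := fun t => by
      induction t using TensorProduct.induction_on with
      | zero => exact ⟨∅, zero_mem _⟩
      | tmul c l =>
        refine ⟨{l}, ?_⟩
        rw [← mul_one c, ← smul_eq_mul, ← TensorProduct.smul_tmul']
        exact Submodule.smul_mem _ _ (Submodule.subset_span ⟨l, by simp⟩)
      | add a b ha hb =>
        obtain ⟨s, hs⟩ := ha; obtain ⟨t, ht⟩ := hb
        exact ⟨s ∪ t, add_mem (Submodule.span_mono (Set.image_mono (by simp)) hs)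
          (Submodule.span_mono (Set.image_mono (by simp)) ht)⟩
    obtain ⟨g, hg⟩ := (inferInstance : Module.Finite S (S ⊗[B'] L)).fg_top
    choose s hs using h
    refine ⟨g.biUnion s, top_le_iff.1 (hg ▸ Submodule.span_le.2 fun t ht => ?_)⟩
    exact Submodule.span_mono (Set.image_mono (by exact_mod_cast Finset.subset_biUnion_of_mem s ht)) (hs t)
  obtain ⟨s₁, h₁⟩ := hgen B
  obtain ⟨s₂, h₂⟩ := hgen A'
  let N := Submodule.span B' ((s₁ ∪ s₂ : Finset L) : Set L)
  have hzero : ∀ (S : Type u) [CommRing S] [Algebra B' S] (s : Finset L), s ⊆ s₁ ∪ s₂ →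
      Submodule.span S ((fun l => (1 : S) ⊗ₜ[B'] l) '' (s : Set L)) = ⊤ →
      Subsingleton (S ⊗[B'] (L ⧸ N)) := by
    intro S _ _ s hs h
    refine subsingleton_of_forall_eq 0 fun t => ?_
    obtain ⟨t, rfl⟩ := LinearMap.lTensor_surjective S N.mkQ_surjective t
    have hk : (⊤ : Submodule S (S ⊗[B'] L)) ≤ LinearMap.ker (N.mkQ.baseChange S) := by
      rw [← h, Submodule.span_le]
      rintro _ ⟨l, hl, rfl⟩
      simp only [SetLike.mem_coe, LinearMap.mem_ker, LinearMap.baseChange_tmul, Submodule.mkQ_apply,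
        (Submodule.Quotient.mk_eq_zero N).2 (Submodule.subset_span (hs hl)), TensorProduct.tmul_zero]
    exact hk (Submodule.mem_top (x := t))
  have := hzero B s₁ Finset.subset_union_left h₁
  have := hzero A' s₂ Finset.subset_union_right h₂
  have hN : N = ⊤ := Submodule.Quotient.subsingleton_iff.1 (subsingleton_of_pair _ hsq)
  exact ⟨⟨s₁ ∪ s₂, hN⟩⟩

/-- Flatness descends along a Milnor square. -/
theorem flat_of_pair (hsq : EtMil.IsFibreSquare B' B A' A) [Module.Flat B (B ⊗[B'] L)]
    [Module.Flat A' (A' ⊗[B'] L)] : Module.Flat B' L := by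
  rw [Module.Flat.iff_rTensor_injective']
  intro X
  refine (injective_iff_map_eq_zero _).2 fun t ht => ?_
  set β := algebraMap B' B
  set α := algebraMap B' A'
  let X₀ : Submodule B' B' := X ⊓ LinearMap.ker (Algebra.linearMap B' B)
  let X₁ : Submodule B' B := Submodule.map (Algebra.linearMap B' B) X
  let π : X →ₗ[B'] X₁ := ((Algebra.linearMap B' B).comp X.subtype).codRestrict X₁ fun x => ⟨x, x.2, rfl⟩
  have hπs : Function.Surjective π := fun y => by
    obtain ⟨x, hx, hxy⟩ := y.2
    exact ⟨⟨x, hx⟩, Subtype.ext hxy⟩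
  let ι : X₀ →ₗ[B'] X := Submodule.inclusion inf_le_left
  have hex : Function.Exact ι π := fun x => by
    constructor
    · intro h
      exact ⟨⟨(x : B'), ⟨x.2, congr_arg Subtype.val h⟩⟩, rfl⟩
    · rintro ⟨y, rfl⟩
      exact Subtype.ext y.2.2
  -- the image in `B` vanishes
  have h1 : π.rTensor L t = 0 := by
    refine rTensor_injective_of_killed B (surjective_left hsq) L (fun j hj y => ?_) X₁.subtype
      X₁.injective_subtype ?_
    · rw [← IsScalarTower.algebraMap_smul B j y, hj, zero_smul]
    rw [map_zero, ← LinearMap.comp_apply, ← LinearMap.rTensor_comp]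
    have hc : X₁.subtype.comp π = (Algebra.linearMap B' B).comp X.subtype := rfl
    rw [hc, LinearMap.rTensor_comp, LinearMap.comp_apply, ht, map_zero]
  obtain ⟨s, rfl⟩ := (rTensor_exact L hex hπs t).1 h1
  have h2 : ((Algebra.linearMap B' A').comp (X.subtype.comp ι)).rTensor L s = 0 := by
    rw [LinearMap.rTensor_comp, LinearMap.comp_apply, LinearMap.rTensor_comp, LinearMap.comp_apply, ht,
      map_zero]
  -- the ideal `J X`
  let JX : Submodule B' B' := RingHom.ker β • X
  have hJX : JX ≤ X₀ := Submodule.smul_le.2 fun j hj x hx =>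
    ⟨X.smul_mem j hx, show β (j * x) = 0 by rw [map_mul, show β j = 0 from hj, zero_mul]⟩
  have hJXk : ∀ z ∈ JX, β z = 0 := fun z hz => (hJX hz).2
  have hstab : ∀ (a : A') (z), z ∈ JX → ∃ z' ∈ JX, α z' = a * α z := fun a z hz => by
    refine Submodule.smul_induction_on hz (fun j hj x hx => ?_) fun x y hx hy => ?_
    · obtain ⟨j', hj'1, hj'2⟩ := exists_lift_ker hsq (a * α j)
        (by rw [map_mul, map_eq_zero_of_left hj, mul_zero])
      refine ⟨j' * x, Submodule.smul_mem_smul hj'1 hx, ?_⟩
      rw [map_mul, hj'2, smul_eq_mul, map_mul, mul_assoc]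
    · obtain ⟨x', hx'1, hx'2⟩ := hx
      obtain ⟨y', hy'1, hy'2⟩ := hy
      exact ⟨x' + y', add_mem hx'1 hy'1, by rw [map_add, hx'2, hy'2, map_add, mul_add]⟩
  let K : Submodule A' A' :=
    { carrier := {a | ∃ z ∈ JX, α z = a}
      add_mem' := fun {a b} ⟨x, hx, hxa⟩ ⟨y, hy, hyb⟩ => ⟨x + y, add_mem hx hy, by rw [map_add, hxa, hyb]⟩
      zero_mem' := ⟨0, zero_mem _, map_zero α⟩
      smul_mem' := fun c a ⟨z, hz, hza⟩ => by
        obtain ⟨z', hz', hz''⟩ := hstab c z hz
        exact ⟨z', hz', by rw [hz'', hza, smul_eq_mul]⟩ }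
  let q : X₀ →ₗ[B'] A' ⧸ K :=
    ((K.mkQ).restrictScalars B').comp ((Algebra.linearMap B' A').comp (X.subtype.comp ι))
  let P : Submodule A' (A' ⧸ K) :=
    { carrier := {w | ∀ j : B', β j = 0 → j • w = 0}
      add_mem' := fun {a b} ha hb j hj => by rw [smul_add, ha j hj, hb j hj, add_zero]
      zero_mem' := fun j _ => smul_zero j
      smul_mem' := fun c w hw j hj => by rw [smul_comm, hw j hj, smul_zero] }
  have hqP : ∀ x, q x ∈ P := fun x j hj => by
    show Submodule.Quotient.mk (j • α (x : B')) = (0 : A' ⧸ K)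
    refine (Submodule.Quotient.mk_eq_zero K).2 ⟨j * x, Submodule.smul_mem_smul hj x.2.1, ?_⟩
    rw [map_mul, Algebra.smul_def]
  let Q := LinearMap.range q
  let q' : X₀ →ₗ[B'] Q := q.rangeRestrict
  let κ : Q →ₗ[B'] P := (Q.subtype).codRestrict (P.restrictScalars B') fun y => by
    obtain ⟨x, hx⟩ := y.2
    show (y : A' ⧸ K) ∈ P
    rw [← hx]
    exact hqP x
  have h3 : q'.rTensor L s = 0 := by
    refine rTensor_injective_of_killed B (surjective_left hsq) L (fun j hj (y : P) =>
      Subtype.ext ((y.2 : ∀ i : B', β i = 0 → i • (y : A' ⧸ K) = 0) j hj))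
      κ (fun a b h => Subtype.ext (congr_arg (fun z : P => (z : A' ⧸ K)) h)) ?_
    refine rTensor_injective_of_linear A' L P.subtype P.injective_subtype ?_
    rw [map_zero, map_zero, ← LinearMap.comp_apply, ← LinearMap.rTensor_comp, ← LinearMap.comp_apply,
      ← LinearMap.rTensor_comp]
    have hc : (((P.subtype).restrictScalars B').comp κ).comp q' = q := rfl
    rw [hc, LinearMap.rTensor_comp, LinearMap.comp_apply, h2, map_zero]
  let ι' : JX →ₗ[B'] X₀ := Submodule.inclusion hJX
  have hex' : Function.Exact ι' q' := fun x => by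
    constructor
    · intro h
      have h' : α (x : B') ∈ K := (Submodule.Quotient.mk_eq_zero K).1 (congr_arg Subtype.val h)
      obtain ⟨z, hz, hzx⟩ := h'
      exact ⟨⟨z, hz⟩, Subtype.ext (eq_of_both hsq ((hJXk z hz).trans x.2.2.symm) hzx)⟩
    · rintro ⟨y, rfl⟩
      exact Subtype.ext ((Submodule.Quotient.mk_eq_zero K).2 ⟨y, y.2, rfl⟩)
  obtain ⟨w, rfl⟩ := (rTensor_exact L hex' q.surjective_rangeRestrict s).1 h3
  let e : JX →ₗ[B'] K := ((Algebra.linearMap B' A').comp JX.subtype).codRestrict (K.restrictScalars B')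
    fun z => ⟨z, z.2, rfl⟩
  have he : Function.Bijective e := by
    refine ⟨fun a b h => Subtype.ext (eq_of_both hsq ((hJXk _ a.2).trans (hJXk _ b.2).symm)
      (congr_arg (fun z : K => (z : A')) h)), fun y => ?_⟩
    obtain ⟨z, hz, hzy⟩ := y.2
    exact ⟨⟨z, hz⟩, Subtype.ext hzy⟩
  have h4 : e.rTensor L w = 0 := by
    refine rTensor_injective_of_linear A' L K.subtype K.injective_subtype ?_
    rw [map_zero, ← LinearMap.comp_apply, ← LinearMap.rTensor_comp]
    rw [← LinearMap.comp_apply, ← LinearMap.rTensor_comp] at h2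
    exact h2
  have : w = 0 := ((LinearEquiv.ofBijective e he).rTensor L).injective (h4.trans (map_zero _).symm)
  rw [this, map_zero, map_zero]

theorem finitePresentation_of_pair (hsq : EtMil.IsFibreSquare B' B A' A)
    [Module.Flat B (B ⊗[B'] L)] [Module.FinitePresentation B (B ⊗[B'] L)]
    [Module.Flat A' (A' ⊗[B'] L)] [Module.FinitePresentation A' (A' ⊗[B'] L)] :
    Module.FinitePresentation B' L := by
  have : Module.Finite B' L := finite_of_pair L hsq
  have : Module.Flat B' L := flat_of_pair L hsq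
  obtain ⟨n, f, hf⟩ := Module.Finite.exists_fin' B' L
  let K := LinearMap.ker f
  have hfin : ∀ (S : Type u) [CommRing S] [Algebra B' S] [Module.Flat S (S ⊗[B'] L)]
      [Module.FinitePresentation S (S ⊗[B'] L)], Module.Finite S (S ⊗[B'] K) := by
    intro S _ _ _ _
    haveI : Module.Projective S (S ⊗[B'] L) := Module.Flat.projective_of_finitePresentation
    have hinj : Function.Injective (K.subtype.baseChange S) :=
      LinearMap.lTensor_injective_of_exact_of_flat f hf K.subtype K.injective_subtype
        (LinearMap.exact_subtype_ker_map f) S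
    have hex : Function.Exact (K.subtype.lTensor S) (f.lTensor S) :=
      lTensor_exact S (LinearMap.exact_subtype_ker_map f) hf
    obtain ⟨σ, hσ⟩ := Module.projective_lifting_property (f.baseChange S) LinearMap.id
      (LinearMap.lTensor_surjective S hf)
    let pr : S ⊗[B'] (Fin n → B') →ₗ[S] LinearMap.ker (f.baseChange S) :=
      (LinearMap.id - σ.comp (f.baseChange S)).codRestrict _ fun x => by
        rw [LinearMap.mem_ker, LinearMap.sub_apply, map_sub, LinearMap.comp_apply, LinearMap.id_apply,
          ← LinearMap.comp_apply (f.baseChange S) σ, hσ, LinearMap.id_apply, sub_self]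
    have : Module.Finite S (LinearMap.ker (f.baseChange S)) := Module.Finite.of_surjective pr fun x =>
      ⟨x, Subtype.ext (by simp [pr, LinearMap.codRestrict_apply, show (f.baseChange S) x = 0 from x.2])⟩
    have hrange : LinearMap.ker (f.baseChange S) = LinearMap.range (K.subtype.baseChange S) :=
      SetLike.ext fun x => hex x
    exact Module.Finite.equiv ((LinearEquiv.ofEq _ _ hrange).trans (LinearEquiv.ofInjective _ hinj).symm)
  have := hfin B
  have := hfin A'
  have : Module.Finite B' K := finite_of_pair K hsq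
  exact Module.finitePresentation_of_surjective f hf (Module.Finite.iff_fg.1 this)

/-- The fibre product sequence stays injective after tensoring with a flat module. -/
theorem injective_pair_of_flat (hsq : EtMil.IsFibreSquare B' B A' A) [Module.Flat B' L] :
    Function.Injective fun l : L =>
      (((1 : B) ⊗ₜ[B'] l : B ⊗[B'] L), ((1 : A') ⊗ₜ[B'] l : A' ⊗[B'] L)) := by
  let g := (Algebra.linearMap B' B).prod (Algebra.linearMap B' A')
  have hg : Function.Injective g := fun x y h => eq_of_both hsq (congr_arg Prod.fst h) (congr_arg Prod.snd h)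
  have hi := Module.Flat.rTensor_preserves_injective_linearMap (M := L) g hg
  intro a b hab
  have hh := congr_arg (TensorProduct.lid B' L) (hi (a₁ := (1 : B') ⊗ₜ a) (a₂ := (1 : B') ⊗ₜ b) (by
    apply (TensorProduct.prodLeft B' B' B A' L).injective
    simpa [g] using hab))
  simpa using hh

end Groth.Agent.EtMilLib
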