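import Groth.Agent.EtMilLib.Basic

/-!
# Glued modules over a Milnor square
-/

namespace Groth.Agent.EtMilLib

open TensorProduct

universe u

variable {B' B A' A : Type u} [CommRing B'] [CommRing B] [CommRing A'] [CommRing A]
  [Algebra B' B] [Algebra B' A'] [Algebra B A] [Algebra A' A] [Algebra B' A]
  [IsScalarTower B' B A] [IsScalarTower B' A' A]
  {N M' : Type u} [AddCommGroup N] [Module B N] [Module B' N] [IsScalarTower B' B N]
  [AddCommGroup M'] [Module A' M'] [Module B' M'] [IsScalarTower B' A' M']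
  (φ : A ⊗[B] N ≃ₗ[A] A ⊗[A'] M')

theorem mem_glue_iff (x : N × M') :
    x ∈ EtMil.glue B' φ ↔ φ ((1 : A) ⊗ₜ[B] x.1) = (1 : A) ⊗ₜ[A'] x.2 := Iff.rfl

theorem exists_glue_fst (hA : Function.Surjective (algebraMap A' A)) (n : N) :
    ∃ m : M', (n, m) ∈ EtMil.glue B' φ := by
  obtain ⟨m, hm⟩ := TensorProduct.mk_surjective A' M' A hA (φ ((1 : A) ⊗ₜ[B] n))
  exact ⟨m, hm.symm⟩

omit [IsScalarTower B' B A] [IsScalarTower B' A' A] in
/-- The kernel of `M' → A ⊗ M'`. -/
theorem mem_smul_of_tmul_eq_zero (hA : Function.Surjective (algebraMap A' A)) {m : M'}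
    (h : (1 : A) ⊗ₜ[A'] m = (0 : A ⊗[A'] M')) :
    m ∈ RingHom.ker (algebraMap A' A) • (⊤ : Submodule A' M') := by
  set f := Algebra.linearMap A' A
  have hex := rTensor_exact M' (LinearMap.exact_subtype_ker_map f) hA
  obtain ⟨w, hw⟩ := (hex ((1 : A') ⊗ₜ m)).1 (by
    rw [LinearMap.rTensor_tmul, Algebra.linearMap_apply, map_one, h])
  have key : ∀ w, TensorProduct.lid A' M' ((LinearMap.ker f).subtype.rTensor M' w) ∈
      RingHom.ker (algebraMap A' A) • (⊤ : Submodule A' M') := fun w => by
    induction w using TensorProduct.induction_on with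
    | zero => simp
    | add a b ha hb => rw [map_add, map_add]; exact add_mem ha hb
    | tmul i m =>
      rw [LinearMap.rTensor_tmul, TensorProduct.lid_tmul]
      exact Submodule.smul_mem_smul (show (i : A') ∈ RingHom.ker (algebraMap A' A) from i.2) trivial
  have := key w
  rwa [hw, TensorProduct.lid_tmul, one_smul] at this

omit [Module B' M'] [IsScalarTower B' A' M'] [IsScalarTower B' B A] [IsScalarTower B' A' A] in
theorem tmul_eq_zero_of_mem_smul {m : M'}
    (h : m ∈ RingHom.ker (algebraMap A' A) • (⊤ : Submodule A' M')) :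
    (1 : A) ⊗ₜ[A'] m = (0 : A ⊗[A'] M') := by
  refine Submodule.smul_induction_on h (fun i hi m _ => ?_) fun a b ha hb => by
    rw [TensorProduct.tmul_add, ha, hb, add_zero]
  rw [← TensorProduct.smul_tmul, Algebra.smul_def, mul_one, show algebraMap A' A i = 0 from hi,
    TensorProduct.zero_tmul]

theorem zero_prod_mem {m : M'} (h : (1 : A) ⊗ₜ[A'] m = (0 : A ⊗[A'] M')) :
    ((0 : N), m) ∈ EtMil.glue B' φ := by
  rw [mem_glue_iff, TensorProduct.tmul_zero, map_zero, h]

/-- The second projection generates. -/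
theorem span_snd (hA : Function.Surjective (algebraMap A' A)) :
    Submodule.span A' (Set.range (EtMil.glueSnd B' φ)) = ⊤ := by
  set S := Submodule.span A' (Set.range (EtMil.glueSnd B' φ))
  have hI : RingHom.ker (algebraMap A' A) • (⊤ : Submodule A' M') ≤ S := fun m hm =>
    Submodule.subset_span ⟨⟨_, zero_prod_mem φ (tmul_eq_zero_of_mem_smul hm)⟩, rfl⟩
  have key : ∀ t : A ⊗[B] N, ∃ m ∈ S, φ t = (1 : A) ⊗ₜ[A'] m := fun t => by
    induction t using TensorProduct.induction_on with
    | zero => exact ⟨0, zero_mem _, by rw [map_zero, TensorProduct.tmul_zero]⟩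
    | add a b ha hb =>
      obtain ⟨x, hx, hx'⟩ := ha; obtain ⟨y, hy, hy'⟩ := hb
      exact ⟨x + y, add_mem hx hy, by rw [map_add, hx', hy', TensorProduct.tmul_add]⟩
    | tmul a n =>
      obtain ⟨a', rfl⟩ := hA a
      obtain ⟨m, hm⟩ := exists_glue_fst (B' := B') φ hA n
      refine ⟨a' • m, S.smul_mem _ (Submodule.subset_span ⟨⟨_, hm⟩, rfl⟩), ?_⟩
      rw [show (algebraMap A' A a') ⊗ₜ[B] n = algebraMap A' A a' • ((1 : A) ⊗ₜ[B] n) by
        rw [TensorProduct.smul_tmul', smul_eq_mul, mul_one], map_smul, hm, TensorProduct.smul_tmul',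
        smul_eq_mul, mul_one, ← TensorProduct.smul_tmul, Algebra.smul_def, mul_one]
  refine eq_top_iff.2 fun m _ => ?_
  obtain ⟨t, ht⟩ := φ.surjective ((1 : A) ⊗ₜ[A'] m)
  obtain ⟨m', hm', h'⟩ := key t
  rw [← sub_add_cancel m m']
  refine add_mem (hI (mem_smul_of_tmul_eq_zero hA ?_)) hm'
  rw [TensorProduct.tmul_sub, ← ht, h', sub_self]

/-- Elements of the glue with vanishing first coordinate lie in `J` times it. -/
theorem zero_prod_mem_smul (hA : Function.Surjective (algebraMap A' A))
    (hI : ∀ i : A', algebraMap A' A i = 0 → ∃ j : B', algebraMap B' B j = 0 ∧ algebraMap B' A' j = i)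
    {x : EtMil.glue B' φ} (hx : (x : N × M').1 = 0) :
    x ∈ RingHom.ker (algebraMap B' B) • (⊤ : Submodule B' (EtMil.glue B' φ)) := by
  obtain ⟨⟨n, m⟩, hmem⟩ := x
  obtain rfl : n = 0 := hx
  have hm := mem_smul_of_tmul_eq_zero hA (by
    rw [mem_glue_iff, TensorProduct.tmul_zero, map_zero] at hmem
    exact hmem.symm)
  suffices h : ∃ y : EtMil.glue B' φ, (y : N × M') = (0, m) ∧
      y ∈ RingHom.ker (algebraMap B' B) • (⊤ : Submodule B' (EtMil.glue B' φ)) by
    obtain ⟨y, hy, hy'⟩ := h
    exact (show y = ⟨(0, m), hmem⟩ from Subtype.ext hy) ▸ hy'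
  clear hmem
  refine Submodule.smul_induction_on (p := fun m => ∃ y : EtMil.glue B' φ, (y : N × M') = (0, m) ∧
      y ∈ RingHom.ker (algebraMap B' B) • (⊤ : Submodule B' (EtMil.glue B' φ))) hm (fun i hi m _ => ?_) fun a b ha hb => ?_
  · have hm' : m ∈ Submodule.span A' (Set.range (EtMil.glueSnd B' φ)) := by
      rw [span_snd φ hA]; trivial
    induction hm' using Submodule.span_induction generalizing i with
    | mem m h =>
      obtain ⟨z, rfl⟩ := h
      obtain ⟨j, hj, hj'⟩ := hI i hi
      refine ⟨j • z, Prod.ext ?_ ?_, Submodule.smul_mem_smul hj trivial⟩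
      · show j • (z : N × M').1 = 0
        rw [← IsScalarTower.algebraMap_smul B j, hj, zero_smul]
      · show j • (z : N × M').2 = i • (z : N × M').2
        rw [← IsScalarTower.algebraMap_smul A' j, hj']
    | zero => exact ⟨0, Prod.ext rfl (smul_zero i).symm, zero_mem _⟩
    | add a b _ _ ha hb =>
      obtain ⟨y, hy, hy'⟩ := ha i hi trivial
      obtain ⟨z, hz, hz'⟩ := hb i hi trivial
      exact ⟨y + z, by rw [Submodule.coe_add, hy, hz]; simp [smul_add], add_mem hy' hz'⟩
    | smul c a _ ha =>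
      obtain ⟨y, hy, hy'⟩ := ha (i * c) (Ideal.mul_mem_right _ _ hi) trivial
      exact ⟨y, by rw [hy, mul_smul], hy'⟩
  · obtain ⟨y, hy, hy'⟩ := ha
    obtain ⟨z, hz, hz'⟩ := hb
    exact ⟨y + z, by rw [Submodule.coe_add, hy, hz]; simp, add_mem hy' hz'⟩

theorem bijective_fst (hB : Function.Surjective (algebraMap B' B)) (hA : Function.Surjective (algebraMap A' A))
    (hI : ∀ i : A', algebraMap A' A i = 0 → ∃ j : B', algebraMap B' B j = 0 ∧ algebraMap B' A' j = i) :
    Function.Bijective (LinearMap.liftBaseChange B (EtMil.glueFst B' φ)) := by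
  refine ⟨(injective_iff_map_eq_zero _).2 fun t ht => ?_, fun n => ?_⟩
  · obtain ⟨x, rfl⟩ := TensorProduct.mk_surjective B' (EtMil.glue B' φ) B hB t
    rw [TensorProduct.mk_apply, LinearMap.liftBaseChange_tmul, one_smul] at ht
    rw [TensorProduct.mk_apply]
    refine Submodule.smul_induction_on (zero_prod_mem_smul φ hA hI (x := x) ht) (fun j hj m _ => ?_)
      fun a b ha hb => by rw [TensorProduct.tmul_add, ha, hb, add_zero]
    rw [← TensorProduct.smul_tmul, Algebra.smul_def, mul_one, show algebraMap B' B j = 0 from hj,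
      TensorProduct.zero_tmul]
  · obtain ⟨m, hm⟩ := exists_glue_fst (B' := B') φ hA n
    exact ⟨(1 : B) ⊗ₜ ⟨(n, m), hm⟩, by rw [LinearMap.liftBaseChange_tmul, one_smul]; rfl⟩

theorem bijective_snd (hB : Function.Surjective (algebraMap B' B)) (hA : Function.Surjective (algebraMap A' A))
    (hI : ∀ i : A', algebraMap A' A i = 0 → ∃ j : B', algebraMap B' B j = 0 ∧ algebraMap B' A' j = i) :
    Function.Bijective (LinearMap.liftBaseChange A' (EtMil.glueSnd B' φ)) := by
  set N' := EtMil.glue B' φ
  refine ⟨(injective_iff_map_eq_zero _).2 fun t ht => ?_, fun m => ?_⟩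
  · -- the image in `A ⊗ N'`
    let e₁ := LinearEquiv.ofBijective _ (bijective_fst φ hB hA hI)
    let e : A ⊗[B'] N' ≃ₗ[A] A ⊗[B] N :=
      (TensorProduct.AlgebraTensorModule.cancelBaseChange B' B A A N').symm.trans
        (TensorProduct.AlgebraTensorModule.congr (LinearEquiv.refl A A) e₁)
    set g := (IsScalarTower.toAlgHom B' A' A).toLinearMap
    have key : ∀ t, φ (e (g.rTensor N' t)) =
        (1 : A) ⊗ₜ[A'] LinearMap.liftBaseChange A' (EtMil.glueSnd B' φ) t := fun t => by
      induction t using TensorProduct.induction_on with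
      | zero => simp
      | add a b ha hb => simp only [map_add, TensorProduct.tmul_add, ha, hb]
      | tmul a x =>
        have hx : φ ((1 : A) ⊗ₜ[B] (x : N × M').1) = (1 : A) ⊗ₜ[A'] (x : N × M').2 := x.2
        simp only [g, e, LinearMap.rTensor_tmul, LinearEquiv.trans_apply,
          TensorProduct.AlgebraTensorModule.cancelBaseChange_symm_tmul,
          TensorProduct.AlgebraTensorModule.congr_tmul, LinearMap.liftBaseChange_tmul]
        rw [show e₁ ((1 : B) ⊗ₜ[B'] x) = (x : N × M').1 from
          by simp [e₁]; rfl]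
        simp only [LinearEquiv.refl_apply]
        rw [show (IsScalarTower.toAlgHom B' A' A).toLinearMap a ⊗ₜ[B] (x : N × M').1 =
          algebraMap A' A a • ((1 : A) ⊗ₜ[B] (x : N × M').1) by
            rw [TensorProduct.smul_tmul', smul_eq_mul, mul_one]; rfl, map_smul, hx,
          TensorProduct.smul_tmul', smul_eq_mul, mul_one, ← TensorProduct.smul_tmul, Algebra.smul_def,
          mul_one]
        rfl
    have h0 : g.rTensor N' t = 0 := e.injective (φ.injective (by
      rw [key, ht, TensorProduct.tmul_zero, map_zero, map_zero]))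
    obtain ⟨w, hw⟩ := ((rTensor_exact N' (LinearMap.exact_subtype_ker_map g) hA) t).1 h0
    have hex : ∀ w, ∃ y : N', (y : N × M').1 = 0 ∧
        (LinearMap.ker g).subtype.rTensor N' w = (1 : A') ⊗ₜ[B'] y := fun w => by
      induction w using TensorProduct.induction_on with
      | zero => exact ⟨0, by simp, by simp⟩
      | add a b ha hb =>
        obtain ⟨x, hx, hx'⟩ := ha; obtain ⟨y, hy, hy'⟩ := hb
        exact ⟨x + y, by simp [hx, hy], by rw [map_add, hx', hy', TensorProduct.tmul_add]⟩
      | tmul i x =>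
        obtain ⟨j, hj, hj'⟩ := hI (i : A') i.2
        refine ⟨j • x, ?_, ?_⟩
        · show j • (x : N × M').1 = 0
          rw [← IsScalarTower.algebraMap_smul B j, hj, zero_smul]
        · rw [← TensorProduct.smul_tmul, Algebra.smul_def, mul_one, hj', LinearMap.rTensor_tmul]
          rfl
    obtain ⟨y, hy, hy'⟩ := hex w
    rw [hw] at hy'
    subst hy'
    rw [LinearMap.liftBaseChange_tmul, one_smul] at ht
    rw [show y = 0 from Subtype.ext (Prod.ext hy ht), TensorProduct.tmul_zero]
  · have hm : m ∈ Submodule.span A' (Set.range (EtMil.glueSnd B' φ)) := by rw [span_snd φ hA]; trivial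
    induction hm using Submodule.span_induction with
    | mem m h => obtain ⟨x, rfl⟩ := h; exact ⟨1 ⊗ₜ x, by rw [LinearMap.liftBaseChange_tmul, one_smul]⟩
    | zero => exact ⟨0, map_zero _⟩
    | add a b _ _ ha hb =>
      obtain ⟨x, rfl⟩ := ha; obtain ⟨y, rfl⟩ := hb; exact ⟨x + y, map_add _ _ _⟩
    | smul c a _ ha => obtain ⟨x, rfl⟩ := ha; exact ⟨c • x, map_smul _ _ _⟩

/-- The glue of finite modules is finite. -/
theorem finite_glue (hB : Function.Surjective (algebraMap B' B)) (hA : Function.Surjective (algebraMap A' A))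
    (hI : ∀ i : A', algebraMap A' A i = 0 → ∃ j : B', algebraMap B' B j = 0 ∧ algebraMap B' A' j = i)
    [Module.Finite B N] [Module.Finite A' M'] : Module.Finite B' (EtMil.glue B' φ) := by
  classical
  set N' := EtMil.glue B' φ
  obtain ⟨a, v, hv⟩ := Module.Finite.exists_fin (R := B) (M := N)
  obtain ⟨b, w, hw⟩ := Module.Finite.exists_fin (R := A') (M := M')
  choose μ hμ using fun k => exists_glue_fst (B' := B') φ hA (v k)
  -- lifts of the first generators
  let x : Fin a → N' := fun k => ⟨(v k, μ k), hμ k⟩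
  have hx : ∀ y : N', ∃ c : Fin a → B', ((y - ∑ k, c k • x k : N') : N × M').1 = 0 := fun y => by
    have : (y : N × M').1 ∈ Submodule.span B (Set.range v) := by rw [hv]; trivial
    obtain ⟨c, hc⟩ := (Submodule.mem_span_range_iff_exists_fun B).1 this
    choose c' hc' using fun k => hB (c k)
    refine ⟨c', ?_⟩
    simp only [x, Submodule.coe_sub, Submodule.coe_sum, Submodule.coe_smul_of_tower, Prod.fst_sub,
      Prod.fst_sum, Prod.smul_fst]
    rw [← hc, sub_eq_zero]
    exact Finset.sum_congr rfl fun k _ => by rw [← hc', IsScalarTower.algebraMap_smul]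
  -- the second generators modulo the images of the first
  have hw' : ∀ l, ∃ (c : Fin a → A') (z : N'), (z : N × M').1 = 0 ∧
      w l = ∑ k, c k • μ k + (z : N × M').2 := fun l => by
    have key : ∀ t : A ⊗[B] N, ∃ c : Fin a → A', φ t = (1 : A) ⊗ₜ[A'] (∑ k, c k • μ k) := fun t => by
      induction t using TensorProduct.induction_on with
      | zero => exact ⟨0, by simp⟩
      | add p q hp hq =>
        obtain ⟨c, hc⟩ := hp; obtain ⟨d, hd⟩ := hq
        exact ⟨c + d, by simp [map_add, hc, hd, add_smul, Finset.sum_add_distrib, TensorProduct.tmul_add]⟩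
      | tmul p n =>
        have : n ∈ Submodule.span B (Set.range v) := by rw [hv]; trivial
        obtain ⟨c, hc⟩ := (Submodule.mem_span_range_iff_exists_fun B).1 this
        choose c' hc' using fun k => hA (p * algebraMap B A (c k))
        refine ⟨c', ?_⟩
        rw [← hc, TensorProduct.tmul_sum, map_sum, TensorProduct.tmul_sum]
        refine Finset.sum_congr rfl fun k _ => ?_
        have h1 : p ⊗ₜ[B] (c k • v k) = algebraMap A' A (c' k) • ((1 : A) ⊗ₜ[B] v k) := by
          rw [← TensorProduct.smul_tmul, Algebra.smul_def, mul_comm, ← hc' k, TensorProduct.smul_tmul',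
            smul_eq_mul, mul_one]
        rw [h1, map_smul, hμ k, TensorProduct.smul_tmul', smul_eq_mul, mul_one, ← TensorProduct.smul_tmul,
          Algebra.smul_def, mul_one]
    obtain ⟨t, ht⟩ := φ.surjective ((1 : A) ⊗ₜ[A'] w l)
    obtain ⟨c, hc⟩ := key t
    refine ⟨c, ⟨(0, w l - ∑ k, c k • μ k), zero_prod_mem φ ?_⟩, rfl, by simp⟩
    rw [TensorProduct.tmul_sub, ← ht, hc, sub_self]
  choose cw z hz hwz using hw'
  refine ⟨⟨Finset.univ.image x ∪ Finset.univ.image z, top_le_iff.1 fun y _ => ?_⟩⟩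
  set S := Submodule.span B' ((Finset.univ.image x ∪ Finset.univ.image z : Finset N') : Set N')
  have hxS : ∀ k, x k ∈ S := fun k => Submodule.subset_span (by simp)
  have hzS : ∀ l, z l ∈ S := fun l => Submodule.subset_span (by simp)
  obtain ⟨c, hc⟩ := hx y
  rw [← sub_add_cancel y (∑ k, c k • x k)]
  refine add_mem ?_ (sum_mem fun k _ => S.smul_mem _ (hxS k))
  generalize y - ∑ k, c k • x k = d at hc
  obtain ⟨⟨n, m⟩, hd⟩ := d
  obtain rfl : n = 0 := hc
  have hm := mem_smul_of_tmul_eq_zero hA (by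
    rw [mem_glue_iff, TensorProduct.tmul_zero, map_zero] at hd
    exact hd.symm)
  suffices h : ∃ q ∈ S, (q : N × M') = (0, m) by
    obtain ⟨q, hq, hq'⟩ := h
    exact (show q = ⟨(0, m), hd⟩ from Subtype.ext hq') ▸ hq
  clear hd
  refine Submodule.smul_induction_on (p := fun m => ∃ q ∈ S, (q : N × M') = (0, m)) hm (fun i hi m _ => ?_) fun p q hp hq => ?_
  · have : m ∈ Submodule.span A' (Set.range w) := by rw [hw]; trivial
    obtain ⟨d, hd⟩ := (Submodule.mem_span_range_iff_exists_fun A').1 this
    choose jx hjx1 hjx2 using fun lk : Fin b × Fin a =>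
      hI (i * d lk.1 * cw lk.1 lk.2) (by rw [map_mul, map_mul, show algebraMap A' A i = 0 from hi, zero_mul, zero_mul])
    choose jz hjz1 hjz2 using fun l : Fin b =>
      hI (i * d l) (by rw [map_mul, show algebraMap A' A i = 0 from hi, zero_mul])
    refine ⟨∑ l, ((∑ k, jx (l, k) • x k) + jz l • z l), sum_mem fun l _ =>
      add_mem (sum_mem fun k _ => S.smul_mem _ (hxS k)) (S.smul_mem _ (hzS l)), Prod.ext ?_ ?_⟩
    · simp only [Submodule.coe_sum, Submodule.coe_add, Submodule.coe_smul_of_tower, Prod.fst_sum,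
        Prod.fst_add, Prod.smul_fst]
      refine Finset.sum_eq_zero fun l _ => ?_
      rw [hz, smul_zero, add_zero]
      refine Finset.sum_eq_zero fun k _ => ?_
      rw [← IsScalarTower.algebraMap_smul B (jx (l, k)), hjx1, zero_smul]
    · simp only [Submodule.coe_sum, Submodule.coe_add, Submodule.coe_smul_of_tower, Prod.snd_sum,
        Prod.snd_add, Prod.smul_snd, x]
      rw [← hd, Finset.smul_sum]
      refine Finset.sum_congr rfl fun l _ => ?_
      rw [hwz l, smul_smul, smul_add, Finset.smul_sum]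
      congr 1
      · exact Finset.sum_congr rfl fun k _ => by
          rw [← IsScalarTower.algebraMap_smul A' (jx (l, k)), hjx2, smul_smul]
      · rw [← IsScalarTower.algebraMap_smul A' (jz l), hjz2]
  · obtain ⟨p', hp, hp'⟩ := hp
    obtain ⟨q', hq, hq'⟩ := hq
    exact ⟨p' + q', add_mem hp hq, by rw [Submodule.coe_add, hp', hq']; simp⟩

end Groth.Agent.EtMilLib
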