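import Groth.Agent.EtMilLib.Basic

/-!
# Pushouts of Milnor squares
-/

namespace Groth.Agent.EtMilLib

open TensorProduct

universe u

variable {B' A' A D' C' C : Type u} [CommRing B'] [CommRing A'] [CommRing A] [CommRing D'] [CommRing C']
  [CommRing C] [Algebra B' A'] [Algebra A' A] [Algebra B' A] [IsScalarTower B' A' A]
  [Algebra B' D'] [Algebra A' C'] [Algebra B' C'] [IsScalarTower B' A' C'] [Algebra D' C']
  [IsScalarTower B' D' C']

theorem surjective_of_pushout {S D : Type u} [CommRing S] [CommRing D] [Algebra B' S] [Algebra S D]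
    [Algebra B' D] [IsScalarTower B' S D] [Algebra D' D] [IsScalarTower B' D' D]
    [Algebra.IsPushout B' S D' D] (hS : Function.Surjective (algebraMap B' S)) :
    Function.Surjective (algebraMap D' D) := fun d => by
  obtain ⟨w, rfl⟩ := (Algebra.IsPushout.equiv B' S D' D).surjective d
  obtain ⟨x, rfl⟩ := TensorProduct.mk_surjective B' D' S hS w
  exact ⟨x, by rw [TensorProduct.mk_apply, Algebra.IsPushout.equiv_tmul, map_one, one_mul]⟩

/-- The kernel of a base change of `A' → A` to a pushout comes from `J`. -/
theorem exists_ker_lift {B D : Type u} [CommRing B] [CommRing D] [Algebra B' B] [Algebra B D] [Algebra B' D]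
    [IsScalarTower B' B D] [Algebra D' D] [IsScalarTower B' D' D] [Algebra A C] [Algebra B' C]
    [IsScalarTower B' A C] [Algebra D' C] [IsScalarTower B' D' C] [Algebra C' C] [IsScalarTower D' C' C]
    [Algebra A' C] [IsScalarTower A' A C] [IsScalarTower A' C' C]
    [Algebra.IsPushout B' A' D' C'] [Algebra.IsPushout B' A D' C]
    (hA : Function.Surjective (algebraMap A' A))
    (hI : ∀ i : A', algebraMap A' A i = 0 → ∃ j : B', algebraMap B' B j = 0 ∧ algebraMap B' A' j = i)
    (c : C') (hc : algebraMap C' C c = 0) :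
    ∃ d : D', algebraMap D' D d = 0 ∧ algebraMap D' C' d = c := by
  set g := (IsScalarTower.toAlgHom B' A' A).toLinearMap
  obtain ⟨w, rfl⟩ := (Algebra.IsPushout.equiv B' A' D' C').surjective c
  have key : ∀ w, Algebra.IsPushout.equiv B' A D' C (g.rTensor D' w) =
      algebraMap C' C (Algebra.IsPushout.equiv B' A' D' C' w) := fun w => by
    induction w using TensorProduct.induction_on with
    | zero => simp
    | add a b ha hb => simp only [map_add, ha, hb]
    | tmul a d =>
      rw [LinearMap.rTensor_tmul, Algebra.IsPushout.equiv_tmul, Algebra.IsPushout.equiv_tmul, map_mul,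
        ← IsScalarTower.algebraMap_apply, ← IsScalarTower.algebraMap_apply,
        IsScalarTower.algebraMap_apply A' A C]
      rfl
  have h0 : g.rTensor D' w = 0 := (Algebra.IsPushout.equiv B' A D' C).injective (by rw [key, hc, map_zero])
  obtain ⟨v, rfl⟩ := ((rTensor_exact D' (LinearMap.exact_subtype_ker_map g) hA) w).1 h0
  clear h0 hc
  induction v using TensorProduct.induction_on with
  | zero => exact ⟨0, map_zero _, by simp⟩
  | add a b ha hb =>
    obtain ⟨x, hx, hx'⟩ := ha
    obtain ⟨y, hy, hy'⟩ := hb
    exact ⟨x + y, by rw [map_add, hx, hy, add_zero], by simp only [map_add, hx', hy']⟩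
  | tmul i d =>
    obtain ⟨j, hj, hj'⟩ := hI (i : A') i.2
    refine ⟨algebraMap B' D' j * d, ?_, ?_⟩
    · rw [map_mul, ← IsScalarTower.algebraMap_apply, IsScalarTower.algebraMap_apply B' B D, hj, map_zero,
        zero_mul]
    · rw [map_mul, ← IsScalarTower.algebraMap_apply, IsScalarTower.algebraMap_apply B' A' C', hj',
        LinearMap.rTensor_tmul, Algebra.IsPushout.equiv_tmul]
      rfl

end Groth.Agent.EtMilLib
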